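import Groth.Agent.EulerPnLib.Restrict
import Groth.Agent.EulerPnLib.Simple
import Mathlib.LinearAlgebra.Eigenspace.Triangularizable
import Mathlib.FieldTheory.IsAlgClosed.AlgebraicClosure

/-!
# A vector field on projective space has a zero
-/

set_option autoImplicit false
set_option linter.style.haveILetI false
set_option linter.unusedSectionVars false
set_option maxHeartbeats 1000000
set_option backward.isDefEq.respectTransparency false
set_option backward.isDefEq.respectTransparency.types false
universe u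

open CategoryTheory CategoryTheory.Limits AlgebraicGeometry TopologicalSpace Opposite
open GradedCechLib (deh Poly resO cstOn X_mem)

noncomputable section

namespace VecFieldZeroLib

open EulerPnLib

variable (n : ℕ) (k : Type u) [Field k]

local notation "P" => CohB1.ProjSpace n k
local notation "O'" => Twist.twistProjSpace n k
local notation "ℳ" => CohB1.polyGrading n k

theorem exists_eigen {ι : Type} [Fintype ι] [DecidableEq ι] [Nonempty ι] (K : Type u) [Field K] [IsAlgClosed K]
    (A : ι → ι → K) : ∃ (v : ι → K) (c : K), v ≠ 0 ∧ ∀ j, ∑ l, A j l * v l = c * v j := by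
  obtain ⟨c, hc⟩ := Module.End.exists_eigenvalue (Matrix.mulVecLin (Matrix.of A))
  obtain ⟨v, hv⟩ := hc.exists_hasEigenvector
  refine ⟨v, c, hv.2, fun j => ?_⟩
  have h := congrFun hv.apply_eq_smul j
  simpa [Matrix.mulVec, dotProduct] using h

/-- The point of projective space under a vector with coordinates in an extension field, with an evaluation of
its twisted local rings. -/
theorem exists_point {K : Type u} [Field K] [Algebra k K] (v : Fin (n + 1) → K) (hv : v ≠ 0) :
    ∃ (x : P) (ψ : Twist.Loc ℳ x →+* FractionRing (Polynomial K)) (T : FractionRing (Polynomial K)),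
      (∀ c : k, ψ (algebraMap (Poly n k) _ (MvPolynomial.C c)) =
        algebraMap (Polynomial K) _ (Polynomial.C (algebraMap k K c))) ∧
      (∀ l, ψ (algebraMap (Poly n k) _ (MvPolynomial.X l)) =
        algebraMap (Polynomial K) _ (Polynomial.C (v l)) * T) := by
  classical
  let φ : Poly n k →ₐ[k] Polynomial K := MvPolynomial.aeval fun l => Polynomial.C (v l) * Polynomial.X
  have hC : ∀ c : k, algebraMap k (Polynomial K) c = Polynomial.C (algebraMap k K c) := fun c => by
    rw [IsScalarTower.algebraMap_apply k K (Polynomial K), ← Polynomial.C_eq_algebraMap]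
  have hhom : ∀ (d : ℕ) (p : Poly n k), p.IsHomogeneous d →
      φ p = Polynomial.C (MvPolynomial.aeval v p) * Polynomial.X ^ d := by
    intro d p hp
    conv_lhs => rw [p.as_sum]
    conv_rhs => rw [p.as_sum]
    rw [map_sum, map_sum, map_sum, Finset.sum_mul]
    refine Finset.sum_congr rfl fun e he => ?_
    have hd : e.degree = d := by
      by_contra hne
      exact MvPolynomial.mem_support_iff.1 he (hp.coeff_eq_zero hne)
    show MvPolynomial.aeval _ _ = _
    rw [MvPolynomial.aeval_monomial, MvPolynomial.aeval_monomial, Finsupp.prod, Finsupp.prod]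
    simp only [mul_pow, Finset.prod_mul_distrib, ← map_pow, ← map_prod, Finset.prod_pow_eq_pow_sum]
    rw [← hd, map_mul, Finsupp.degree_apply, hC, mul_assoc]
  have hI : (RingHom.ker (φ : Poly n k →+* Polynomial K)).IsHomogeneous (CohB1.polyGrading n k) := by
    intro i p hp
    rw [RingHom.mem_ker] at hp ⊢
    change φ p = 0 at hp
    change φ (DirectSum.decompose (CohB1.polyGrading n k) p i : Poly n k) = 0
    have hq : ∀ j, φ (DirectSum.decompose (CohB1.polyGrading n k) p j : Poly n k) =
        Polynomial.C (MvPolynomial.aeval v (DirectSum.decompose (CohB1.polyGrading n k) p j : Poly n k)) *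
          Polynomial.X ^ j := fun j =>
      hhom j _ ((MvPolynomial.mem_homogeneousSubmodule _ _).1 (SetLike.coe_mem _))
    have h1 := congrArg (fun q => Polynomial.coeff q i)
      ((congrArg φ (DirectSum.sum_support_decompose (CohB1.polyGrading n k) p)).trans hp)
    simp only [map_sum, hq, Polynomial.finsetSum_coeff, Polynomial.coeff_C_mul_X_pow, Polynomial.coeff_zero,
      Finset.sum_ite_eq] at h1
    rw [hq i]
    split_ifs at h1 with hi
    · rw [h1, map_zero, zero_mul]
    · rw [DFinsupp.notMem_support_iff.1 hi]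
      simp
  obtain ⟨a, ha⟩ : ∃ a, v a ≠ 0 := Function.ne_iff.1 hv
  let x : P :=
    ({ asHomogeneousIdeal := ⟨RingHom.ker (φ : Poly n k →+* Polynomial K), hI⟩
       isPrime := RingHom.ker_isPrime _
       not_irrelevant_le := fun hle => by
         have hX : (MvPolynomial.X a : Poly n k) ∈ HomogeneousIdeal.irrelevant (CohB1.polyGrading n k) := by
           rw [HomogeneousIdeal.mem_irrelevant_iff, GradedRing.proj_apply,
             DirectSum.decompose_of_mem_ne _ (GradedCechLib.X_mem n k a) one_ne_zero]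
         have h2 : φ (MvPolynomial.X a) = 0 := hle hX
         rw [MvPolynomial.aeval_X] at h2
         exact mul_ne_zero (Polynomial.C_ne_zero.2 ha) Polynomial.X_ne_zero h2 } :
      ProjectiveSpectrum (CohB1.polyGrading n k))
  haveI hxp : (x : ProjectiveSpectrum (CohB1.polyGrading n k)).asHomogeneousIdeal.toIdeal.IsPrime :=
    (x : ProjectiveSpectrum (CohB1.polyGrading n k)).isPrime
  let ι : Poly n k →+* FractionRing (Polynomial K) := (algebraMap _ _).comp (φ : Poly n k →+* Polynomial K)
  have hu : ∀ y : x.asHomogeneousIdeal.toIdeal.primeCompl, IsUnit (ι y) := fun y =>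
    isUnit_iff_ne_zero.2 fun h1 => y.2 ((IsFractionRing.to_map_eq_zero_iff).1 h1)
  refine ⟨x, IsLocalization.lift hu, algebraMap (Polynomial K) _ Polynomial.X, fun c => ?_, fun l => ?_⟩
  · rw [IsLocalization.lift_eq]
    show algebraMap _ _ (φ _) = _
    rw [MvPolynomial.aeval_C, hC]
  · rw [IsLocalization.lift_eq]
    show algebraMap _ _ (φ _) = _
    rw [MvPolynomial.aeval_X, map_mul]

/-- Global vector fields are linear. -/
theorem exists_linear (ξ : Omega.sheaf (CohB1.ProjSpace.toSpec n k) ⟶ O' 0) :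
    ∃ A : Fin (n + 1) → Fin (n + 1) → k, ξ = ∑ j, epsC n k j ≫ ∑ l, A j l • mulXHom n k l := by
  obtain ⟨e⟩ := PicPnLib.twist_zero n k
  obtain ⟨β, hβ⟩ := exists_extend_of_subsingleton k (euler_shortExact n k) e ξ
    (PnCohLib.subsingleton_HH_twist 0 (0 + 1) (by omega) (by omega))
  choose A hA using fun j => exists_forms n k (biproduct.ι (fun _ : Fin (n + 1) => O' (-1)) j ≫ β)
  refine ⟨A, hβ.symm.trans ?_⟩
  have e1 : β = ∑ j, biproduct.π (fun _ : Fin (n + 1) => O' (-1)) j ≫ ∑ l, A j l • mulXHom n k l := by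
    rw [← biproduct.desc_eq]
    exact biproduct.hom_ext' _ _ fun j => by rw [biproduct.ι_desc]; exact hA j
  rw [e1, Preadditive.comp_sum]
  refine Finset.sum_congr rfl fun j _ => ?_
  rw [← Category.assoc]
  exact congrArg (· ≫ _) (biproduct.lift_π _ _)

/-- A vector field has a zero. -/
theorem exists_zero (ξ : Omega.sheaf (CohB1.ProjSpace.toSpec n k) ⟶ Coh.structureModule P) :
    ∃ x : P, ∀ (U : (CohB1.ProjSpace n k).Opens) (hx : x ∈ U)
      (s : Γ(Omega.sheaf (CohB1.ProjSpace.toSpec n k), U)),
      (CohB1.ProjSpace n k).presheaf.germ U x hx (OmegaSh.fnSect (CohB1.ProjSpace n k) U (ξ.app U s)) ∈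
        IsLocalRing.maximalIdeal ((CohB1.ProjSpace n k).presheaf.stalk x) := by
  classical
  obtain ⟨e⟩ := PicPnLib.twist_zero n k
  obtain ⟨A, hA⟩ := exists_linear n k (ξ ≫ e.inv)
  let K := AlgebraicClosure k
  obtain ⟨v, c, hv, heig⟩ := exists_eigen K fun j l => algebraMap k K (A j l)
  obtain ⟨x, ψ, T, hψC, hψX⟩ := exists_point n k v hv
  refine ⟨x, fun U hx s => ?_⟩
  let ι' := algebraMap (Polynomial K) (FractionRing (Polynomial K))
  let E : Fin (n + 1) → FractionRing (Polynomial K) := fun j => ψ (TwistLib.val ((epsC n k j).app U s) ⟨x, hx⟩)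
  have hsig : ∑ j, ι' (Polynomial.C (v j)) * T * E j = 0 := by
    have h0 : ψ (TwistLib.val ((sigma n k).app U ((eps n k).app U s)) ⟨x, hx⟩) = 0 := by
      have e0 := congrArg (fun φ : Omega.sheaf (CohB1.ProjSpace.toSpec n k) ⟶ O' 0 =>
        ψ (TwistLib.val (φ.app U s) ⟨x, hx⟩)) (eps_sigma n k)
      refine Eq.trans (congrArg (fun t => ψ (TwistLib.val t ⟨x, hx⟩)) (app_comp' _ _ U s).symm)
        (e0.trans ?_)
      exact map_zero ψ
    have h1 := (congrArg ψ (val_sigma n k ((eps n k).app U s) ⟨x, hx⟩)).symm.trans h0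
    rw [map_sum] at h1
    refine Eq.trans (Finset.sum_congr rfl fun j _ => ?_) h1
    rw [map_mul, hψX]
    exact congrArg (fun t => _ * T * ψ (TwistLib.val t ⟨x, hx⟩)) (π_eps n k j s).symm
  have hval : ψ (TwistLib.val ((ξ ≫ e.inv).app U s) ⟨x, hx⟩) = 0 := by
    rw [hA, app_sum, val_sum, map_sum]
    refine Eq.trans (Finset.sum_congr rfl fun j _ => ?_)
      ((Finset.mul_sum _ _ _).symm.trans (mul_eq_zero_of_right (ι' (Polynomial.C c)) hsig))
    rw [app_comp', app_sum, val_sum, map_sum]
    simp only [val_smul_app, val_mulXel, map_mul, hψC, hψX]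
    show ∑ l, ι' (Polynomial.C (algebraMap k K (A j l))) * (ι' (Polynomial.C (v l)) * T * E j) =
      ι' (Polynomial.C c) * (ι' (Polynomial.C (v j)) * T * E j)
    simp only [← mul_assoc, ← Finset.sum_mul, ← map_mul, ← map_sum, heig j]
  obtain ⟨f, hf⟩ := ((one₀ n k).genOn U le_top).2 ((ξ ≫ e.inv).app U s)
  have hev : ψ (ev ℳ (⟨x, hx⟩ : U) f) = 0 := by
    refine Eq.trans (congrArg ψ ?_) hval
    rw [← hf]
    refine Eq.symm ((val_smul' f _ _).trans ?_)
    rw [show TwistLib.val (AmpleLib.res _ (le_top : U ≤ ⊤) (one₀ n k).sec) (⟨x, hx⟩ : U) = 1 from Localization.mk_one]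
    exact mul_one _
  have hgerm : (CohB1.ProjSpace n k).presheaf.germ U x hx f ∈
      IsLocalRing.maximalIdeal ((CohB1.ProjSpace n k).presheaf.stalk x) := by
    rw [IsLocalRing.mem_maximalIdeal, mem_nonunits_iff]
    intro hu
    have hm : x ∈ (CohB1.ProjSpace n k).basicOpen f := ((CohB1.ProjSpace n k).mem_basicOpen _ x hx).2 hu
    have h2 := (((CohB1.ProjSpace n k).toRingedSpace.isUnit_res_basicOpen f).map
      (ev ℳ (⟨x, hm⟩ : (CohB1.ProjSpace n k).basicOpen f))).map ψ
    exact h2.ne_zero (Eq.trans (by rfl) hev)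
  have h3 : ξ.app U s = f • e.hom.app U (AmpleLib.res _ (le_top : U ≤ ⊤) (one₀ n k).sec) := by
    have h4 := congrArg (e.hom.app U) hf
    rw [QCohLib.app_smul, ← app_comp', Category.assoc, e.inv_hom_id, Category.comp_id] at h4
    exact h4.symm
  rw [h3]
  let g : Γ(CohB1.ProjSpace n k, U) :=
    OmegaSh.fnSect _ U (e.hom.app U (AmpleLib.res _ (le_top : U ≤ ⊤) (one₀ n k).sec))
  let f' : Γ(CohB1.ProjSpace n k, U) := f
  show (CohB1.ProjSpace n k).presheaf.germ U x hx (f' * g) ∈ _
  rw [map_mul]
  exact Ideal.mul_mem_right _ _ hgerm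

end VecFieldZeroLib
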